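import Cfsg.Agent.Transfer.NormalPComplement
import Cfsg.Agent.Transfer.Residual
import Cfsg.Agent.Blocks.PrincipalKernel
import Cfsg.Agent.Blocks.UniqueBlock
import Cfsg.Agent.Blocks.Fong
import Cfsg.Agent.Characters.CCBasic
import Cfsg.Agent.Characters.Linear
import Cfsg.Agent.Solvable.SchurZassenhausConj
import Cfsg.Agent.Characters.GaloisIrr
import Cfsg.Agent.H133.PB.Basic
import Cfsg.Agent.H139.RealB0.Crit
import Cfsg.Agent.H626.ExtB.Perm
import Cfsg.Agent.S0887

/-!
# S4829: the reduction to a nonabelian unique minimal normal subgroup (helper19)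

All primes `p`.

* `HasC p M G` : `G` has a `p`-cyclotomic valued nonlinear irreducible character of degree prime to `p` in the principal
  `p`-block;
* `easy` : the direction `⇒` of S4829;
* `Sit p N` : the situation left: `N` is the unique minimal normal subgroup of `G`, nonabelian, of order divisible by
  `p`, `C_G(N) = 1`, and `G / N` has a normal `p`-complement (`O^p(G) / N`);
* `wrap` : if `HasC p M G` holds in all situations `Sit p N`, then it holds for all groups without normal
  `p`-complement; `main_iff` : S4829 from that.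
-/

set_option autoImplicit false

open Cfsg
open scoped ComplexConjugate

namespace Cfsg.Agent.H19.NC

open Cfsg.Agent.Characters.Core Cfsg.Agent.Transfer

universe u

/-- `p`-cyclotomic valued: the text of S4829 -/
def PCyc (p : ℕ) {G : Type u} [Group G] (χ : G → ℂ) : Prop :=
  ∀ k : ℕ, Nat.Coprime k (Nat.card G) → k ≡ 1 [MOD p] → ∀ g : G, χ (g ^ k) = χ g

/-- `G` has a `p`-cyclotomic valued nonlinear irreducible character of degree prime to `p` in the principal block -/
def HasC (p : ℕ) (M : Ideal AlgInt) (G : Type u) [Group G] : Prop :=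
  ∃ χ : IrrCharacter G, χ ∈ principalBlock M G ∧ charDegree (χ : G → ℂ) ≠ 1 ∧ PCyc p (χ : G → ℂ) ∧
    ¬ p ∣ charDegree (χ : G → ℂ)

/-- the situation left by the reduction -/
structure Sit (p : ℕ) {G : Type u} [Group G] (N : Subgroup G) : Prop where
  normal : N.Normal
  uniq : ∀ L : Subgroup G, L.Normal → L ≠ ⊥ → N ≤ L
  ne : N ≠ ⊥
  na : ¬ ∀ x ∈ N, ∀ y ∈ N, Commute x y
  dvd : p ∣ Nat.card N
  le : N ≤ pResidual p G
  rel : ¬ p ∣ N.relIndex (pResidual p G)
  cent : Subgroup.centralizer (N : Set G) = ⊥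

theorem Sit.min {p : ℕ} {G : Type u} [Group G] {N : Subgroup G} (h : Sit p N) (L : Subgroup G) (hL : L.Normal)
    (hLN : L ≤ N) : L = ⊥ ∨ L = N := by
  by_cases h1 : L = ⊥
  · exact Or.inl h1
  · exact Or.inr (le_antisymm hLN (h.uniq L hL h1))

section easy

variable {p : ℕ} [hp : Fact p.Prime] {M : Ideal AlgInt} {G : Type u} [Group G] [Finite G]

/-- **the direction `⇒`** -/
theorem easy (hM : IsPModular p M) (h : HasNormalPComplement p G) {χ : IrrCharacter G} (hχ : χ ∈ principalBlock M G)
    (h0 : charDegree (χ : G → ℂ) ≠ 1) : p ∣ charDegree (χ : G → ℂ) := by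
  classical
  have := Fintype.ofFinite G
  rw [Transfer.NormalPComplement.hasNormalPComplement_iff_coprime, Nat.coprime_comm,
    hp.out.coprime_iff_not_dvd] at h
  have hNn : (Cfsg.pResidual p G).Normal := Transfer.Residual.pResidual_normal p
  obtain ⟨k, hk⟩ := Transfer.Residual.exists_index_pResidual_eq_pow (G := G) p
  set N : Subgroup G := Cfsg.pResidual p G with hN
  have := Fintype.ofFinite N
  have h2 : ∀ n ∈ N, (χ : G → ℂ) n = (χ : G → ℂ) 1 := fun n hn =>
    Blocks.PrincipalKernel.principalBlock_apply_eq hM h hχ hn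
  have h3 : classInner (fun n : N => (χ : G → ℂ) n) (fun _ : N => (1 : ℂ)) ≠ 0 := by
    have h4 : (fun n : N => (χ : G → ℂ) n) = ((χ : G → ℂ) 1) • (fun _ : N => (1 : ℂ)) := by
      funext n
      rw [h2 n n.2, Pi.smul_apply, smul_eq_mul, mul_one]
    rw [h4, classInner_smul_left, classInner_irr_self Blocks.Basic.isIrrCharacter_one, mul_one]
    exact Blocks.Basic.irr_one_ne_zero χ.2
  obtain ⟨-, h5⟩ := S0887.result N (χ : G → ℂ) χ.2 (fun _ => 1) Blocks.Basic.isIrrCharacter_one h3
    (charDegree (χ : G → ℂ)) 1 (Blocks.Basic.irr_one_eq_charDegree χ.2) (by simp)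
  rw [Nat.div_one, hk] at h5
  obtain ⟨j, -, hj⟩ := (Nat.dvd_prime_pow hp.out).1 h5
  rcases Nat.eq_zero_or_pos j with rfl | hj0
  · exact absurd hj h0
  · rw [hj]
    exact dvd_pow_self p hj0.ne'

omit hp in
/-- inflation -/
theorem HasC.of_surjective [M.IsPrime] {H : Type u} [Group H] (f : G →* H) (hf : Function.Surjective f)
    (h : HasC p M H) : HasC p M G := by
  obtain ⟨χ, h1, h2, h3, h4⟩ := h
  have hd : charDegree ((χ : H → ℂ) ∘ f) = charDegree (χ : H → ℂ) := by
    rw [Blocks.Basic.charDegree_def, Blocks.Basic.charDegree_def, Function.comp_apply, map_one]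
  refine ⟨_, H133.PB.mem_principalBlock_comp f hf h1, ?_, ?_, ?_⟩
  · show charDegree ((χ : H → ℂ) ∘ f) ≠ 1
    rwa [hd]
  · intro k hk hkp g
    show (χ : H → ℂ) (f (g ^ k)) = (χ : H → ℂ) (f g)
    rw [map_pow]
    exact h3 k (Nat.Coprime.coprime_dvd_right (Subgroup.card_dvd_of_surjective f hf) hk) hkp (f g)
  · show ¬ p ∣ charDegree ((χ : H → ℂ) ∘ f)
    rwa [hd]

end easy

section compl

variable {G : Type u} [Group G] [Finite G]

/-- the Frattini argument: `N` abelian of order prime to `|K : N|`, `K` normal; then a complement of `N` in `K` has a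
supplement `L` of `N` as normalizer -/
theorem exists_supplement (N K : Subgroup G) [N.Normal] [K.Normal] (hNK : N ≤ K)
    (hab : ∀ x ∈ N, ∀ y ∈ N, x * y = y * x) (hcop : (Nat.card N).Coprime (N.relIndex K)) :
    ∃ H : Subgroup G, H ≤ K ∧ N ⊓ H = ⊥ ∧ N ⊔ H = K ∧ N ⊔ Subgroup.normalizer (H : Set G) = ⊤ := by
  classical
  let A : Subgroup K := N.subgroupOf K
  have hAn : A.Normal := inferInstance
  have hAc : Nat.card A = Nat.card N := Nat.card_congr (Subgroup.subgroupOfEquivOfLe hNK).toEquiv
  have hcopA : (Nat.card A).Coprime A.index := by rw [hAc]; exact hcop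
  obtain ⟨B, hB⟩ := Subgroup.exists_right_complement'_of_coprime hcopA
  have hAcomm : IsMulCommutative A := ⟨⟨fun a b => Subtype.ext (Subtype.ext (hab _ a.2 _ b.2))⟩⟩
  refine ⟨B.map K.subtype, Subgroup.map_subtype_le B, ?_, ?_, ?_⟩
  · rw [eq_bot_iff]
    rintro _ ⟨hx, ⟨b, hb, rfl⟩⟩
    have h1 : b ∈ A ⊓ B := ⟨hx, hb⟩
    rw [hB.isCompl.inf_eq_bot, Subgroup.mem_bot] at h1
    rw [h1]
    exact Subgroup.one_mem _
  · have h1 : (A ⊔ B).map K.subtype = (⊤ : Subgroup K).map K.subtype := by rw [hB.sup_eq_top]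
    rw [Subgroup.map_sup, ← MonoidHom.range_eq_map, Subgroup.range_subtype] at h1
    have h2 : A.map K.subtype = N := by
      rw [Subgroup.subgroupOf_map_subtype, inf_eq_left.2 hNK]
    rwa [h2] at h1
  · rw [eq_top_iff]
    intro g _
    let e : MulAut K := MulAut.conjNormal g
    have hecoe : ∀ x : K, ((e x : K) : G) = g * x * g⁻¹ := fun x => MulAut.conjNormal_apply _ _
    have hinj : Function.Injective (e : K →* K) := e.injective
    have hBe : A.IsComplement' (B.map (e : K →* K)) := by
      apply Solvable.SchurZassenhausConj.isComplement'_of_card_eq_index _ _ hcopA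
      rw [Subgroup.card_map_of_injective hinj]
      have h1 := hB.symm.index_eq_card
      have h2 := hB.card_mul_card
      have h3 := A.card_mul_index
      exact Nat.eq_of_mul_eq_mul_left (Nat.card_pos (α := A)) (h2.trans h3.symm)
    obtain ⟨a, ha, hab'⟩ := Solvable.SchurZassenhausConj.conj_of_abelian A hcopA _ _ hB hBe
    -- `a⁻¹ g` normalizes the complement
    set y : G := (a : G)⁻¹ * g with hy
    have h1 : ∀ x ∈ B.map K.subtype, y * x * y⁻¹ ∈ B.map K.subtype := by
      rintro _ ⟨b, hb, rfl⟩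
      have h2 : (e b : K) ∈ B.map (e : K →* K) := ⟨b, hb, rfl⟩
      rw [← hab'] at h2
      obtain ⟨c, hc, hce⟩ := h2
      refine ⟨c, hc, ?_⟩
      have h3 : ((e b : K) : G) = a * c * (a : G)⁻¹ := by
        rw [← hce]
        rfl
      rw [hecoe] at h3
      show (c : G) = y * (b : G) * y⁻¹
      have h4 : y * (b : G) * y⁻¹ = (a : G)⁻¹ * (g * b * g⁻¹) * a := by rw [hy]; group
      rw [h4, h3]
      group
    have h2 : (B.map K.subtype).map (MulAut.conj y).toMonoidHom = B.map K.subtype := by
      refine Subgroup.eq_of_le_of_card_ge ?_ ?_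
      · rintro _ ⟨x, hx, rfl⟩
        exact h1 x hx
      · have hi : Function.Injective (MulAut.conj y).toMonoidHom := (MulAut.conj y).injective
        have h0 : Nat.card ((B.map K.subtype).map (MulAut.conj y).toMonoidHom) = Nat.card (B.map K.subtype) :=
          Subgroup.card_map_of_injective hi
        exact h0.ge
    have h3 : y ∈ Subgroup.normalizer ((B.map K.subtype : Subgroup G) : Set G) := by
      rw [Subgroup.mem_normalizer_iff]
      intro x
      refine ⟨h1 x, fun hx => ?_⟩
      have hx' : y * x * y⁻¹ ∈ (B.map K.subtype).map (MulAut.conj y).toMonoidHom := by rw [h2]; exact hx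
      obtain ⟨z, hz, hzx⟩ := hx'
      have h5 : z = x := (MulAut.conj y).injective hzx
      rwa [← h5]
    have h5 : g = a * y := by rw [hy]; group
    rw [h5]
    exact Subgroup.mul_mem_sup ha h3

end compl

section abelian

variable {p : ℕ} [hp : Fact p.Prime] {M : Ideal AlgInt} {G : Type u} [Group G] [Finite G]

omit [Finite G] in
theorem fpc_eq_zero (N L : Subgroup G) [hN : N.Normal] (hinf : N ⊓ L = ⊥) {n : G} (hn : n ∈ N) (h1 : n ≠ 1) :
    fixedPointCharacter L n = 0 := by
  rw [fixedPointCharacter]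
  have h0 : IsEmpty (MulAction.fixedBy (G ⧸ L) n) := by
    refine ⟨fun x => ?_⟩
    obtain ⟨x, hx⟩ := x
    obtain ⟨g, rfl⟩ := QuotientGroup.mk_surjective x
    have h2 : g⁻¹ * n * g ∈ L := by
      have h3 : ((n * g : G) : G ⧸ L) = g := hx
      rw [eq_comm, QuotientGroup.eq] at h3
      rwa [← mul_assoc] at h3
    have h3 : g⁻¹ * n * g ∈ N := by
      have := hN.conj_mem n hn g⁻¹
      rwa [inv_inv] at this
    have h4 : g⁻¹ * n * g ∈ N ⊓ L := ⟨h3, h2⟩
    rw [hinf, Subgroup.mem_bot] at h4
    apply h1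
    have h5 : n = g * (g⁻¹ * n * g) * g⁻¹ := by group
    rw [h5, h4]
    group
  rw [Nat.card_eq_zero.2 (Or.inl h0), Nat.cast_zero]

/-- **the abelian case** -/
theorem abelian_case (hM : IsPModular p M) (N L : Subgroup G) [hN : N.Normal]
    (huniq : ∀ K : Subgroup G, K.Normal → K ≠ ⊥ → N ≤ K) (hab : ∀ x ∈ N, ∀ y ∈ N, x * y = y * x)
    (hexp : ∀ x ∈ N, x ^ p = 1) (hne : N ≠ ⊥) (hsup : N ⊔ L = ⊤) (hinf : N ⊓ L = ⊥) (hL : L ≠ ⊥) : HasC p M G := by
  classical
  have hMp : M.IsPrime := hM.2.1.isPrime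
  have := Fintype.ofFinite G
  have := Fintype.ofFinite N
  have := Fintype.ofFinite L
  have := finite_irr (G := G)
  have := Fintype.ofFinite (IrrCharacter G)
  have hNp : IsPGroup p N := fun x => ⟨1, by rw [pow_one]; exact Subtype.ext (hexp x x.2)⟩
  -- `N` is self-centralizing
  have hcen : Subgroup.centralizer (N : Set G) ≤ N := by
    have hC : (L ⊓ Subgroup.centralizer (N : Set G)).Normal := by
      refine ⟨fun x hx g => ?_⟩
      have hg : g ∈ N ⊔ L := by rw [hsup]; exact Subgroup.mem_top g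
      rw [Subgroup.mem_sup_of_normal_left] at hg
      obtain ⟨n, hn, l, hl, rfl⟩ := hg
      have h1 : l * x * l⁻¹ ∈ L := L.mul_mem (L.mul_mem hl hx.1) (L.inv_mem hl)
      have h2 : l * x * l⁻¹ ∈ Subgroup.centralizer (N : Set G) :=
        (inferInstance : (Subgroup.centralizer (N : Set G)).Normal).conj_mem x hx.2 l
      have h3 : n * l * x * (n * l)⁻¹ = l * x * l⁻¹ := by
        have h4 := Subgroup.mem_centralizer_iff.1 h2 n hn
        calc n * l * x * (n * l)⁻¹ = n * (l * x * l⁻¹) * n⁻¹ := by group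
          _ = l * x * l⁻¹ := by rw [h4]; group
      rw [h3]
      exact ⟨h1, h2⟩
    have hCb : L ⊓ Subgroup.centralizer (N : Set G) = ⊥ := by
      by_contra h
      have h1 := huniq _ hC h
      apply hne
      rw [← hinf, eq_comm, inf_eq_left]
      exact h1.trans inf_le_left
    intro x hx
    have hg : x ∈ N ⊔ L := by rw [hsup]; exact Subgroup.mem_top x
    rw [Subgroup.mem_sup_of_normal_left] at hg
    obtain ⟨n, hn, l, hl, rfl⟩ := hg
    have h1 : l ∈ L ⊓ Subgroup.centralizer (N : Set G) := by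
      refine ⟨hl, ?_⟩
      have h2 : n⁻¹ ∈ Subgroup.centralizer (N : Set G) :=
        Subgroup.mem_centralizer_iff.2 fun y hy => hab y hy _ (N.inv_mem hn)
      have h3 := Subgroup.mul_mem _ h2 hx
      rwa [inv_mul_cancel_left] at h3
    rw [hCb, Subgroup.mem_bot] at h1
    rw [h1, mul_one]
    exact hn
  have hall : ∀ χ : IrrCharacter G, χ ∈ principalBlock M G := fun χ =>
    Blocks.UniqueBlock.sameBlock_of_centralizer_le hM N hNp hcen ⟨_, isIrr_one⟩ χ
  -- the permutation character
  set π : G → ℂ := fixedPointCharacter L with hπ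
  have hπc : IsCharacter G π := H626.ExtB.Perm.isCharacter_fix L
  choose m hm using fun χ : IrrCharacter G => classInner_isNat hπc (isIrr_isCharacter χ.2)
  have hexpand : ∀ g, π g = ∑ χ : IrrCharacter G, (m χ : ℂ) * (χ : G → ℂ) g := by
    intro g
    have h1 := congrFun (classFunction_eq_sum (isCharacter_isClassFunction hπc)) g
    rw [h1, Finset.sum_apply]
    exact Finset.sum_congr rfl fun χ _ => by rw [Pi.smul_apply, smul_eq_mul, hm]
  have hcard : Nat.card (G ⧸ L) = Nat.card N := by
    have hc : N.IsComplement' L := Subgroup.isComplement'_of_disjoint_and_mul_eq_univ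
      (disjoint_iff.2 hinf) (by rw [← Subgroup.normal_mul, hsup]; rfl)
    exact hc.index_eq_card
  have hπ1 : π 1 = Nat.card N := by
    rw [hπ, fixedPointCharacter, MulAction.fixedBy_one_eq_univ]
    rw [Nat.card_congr (Equiv.Set.univ _), hcard]
  have hpN : p ∣ Nat.card N := by
    obtain ⟨x, hx⟩ : ∃ x : N, x ≠ 1 := by
      by_contra hcon
      push Not at hcon
      exact hne ((Subgroup.eq_bot_iff_forall N).2 fun y hy => congrArg Subtype.val (hcon ⟨y, hy⟩))
    have h1 : orderOf x = p := orderOf_eq_prime (Subtype.ext (hexp x x.2)) hx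
    rw [← h1]
    exact orderOf_dvd_natCard x
  -- the multiplicities on `L`
  have hmL : ∀ χ : IrrCharacter G, (m χ : ℂ) = (Nat.card L : ℂ)⁻¹ * ∑ h : L, conj ((χ : G → ℂ) h) := fun χ => by
    rw [← hm]
    exact H139.RealB0.Crit.classInner_fixedPointCharacter L χ
  have hL0 : (Nat.card L : ℂ) ≠ 0 := by exact_mod_cast Nat.card_pos.ne'
  let one : IrrCharacter G := ⟨fun _ => 1, isIrr_one⟩
  have hm1 : m one = 1 := by
    have h1 := hmL one
    have h2 : ∑ h : L, conj ((one : G → ℂ) h) = (Nat.card L : ℂ) := by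
      show ∑ h : L, conj (1 : ℂ) = _
      rw [map_one, Finset.sum_const, Finset.card_univ, nsmul_eq_mul, mul_one, Nat.card_eq_fintype_card]
    rw [h2, inv_mul_cancel₀ hL0] at h1
    exact_mod_cast h1
  -- a nontrivial constituent of degree prime to `p`
  obtain ⟨χ, hχ1, hχm, hχd⟩ : ∃ χ : IrrCharacter G, χ ≠ one ∧ m χ ≠ 0 ∧ ¬ p ∣ charDegree (χ : G → ℂ) := by
    by_contra hcon
    push Not at hcon
    have h1 : (Nat.card N : ℂ) = ((∑ χ : IrrCharacter G, m χ * charDegree (χ : G → ℂ) : ℕ) : ℂ) := by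
      rw [← hπ1, hexpand 1]
      push_cast
      exact Finset.sum_congr rfl fun χ _ => by rw [Blocks.Basic.irr_one_eq_charDegree χ.2]
    have h2 : Nat.card N = ∑ χ : IrrCharacter G, m χ * charDegree (χ : G → ℂ) := by exact_mod_cast h1
    rw [← Finset.add_sum_erase _ _ (Finset.mem_univ one), hm1, one_mul] at h2
    have h3 : charDegree (one : G → ℂ) = 1 := by
      rw [Blocks.Basic.charDegree_def]
      show ⌊((1 : ℂ)).re⌋₊ = 1
      simp
    rw [h3] at h2
    have h4 : p ∣ ∑ χ ∈ Finset.univ.erase one, m χ * charDegree (χ : G → ℂ) := by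
      refine Finset.dvd_sum fun χ hχ => ?_
      by_cases h5 : m χ = 0
      · rw [h5, zero_mul]
        exact dvd_zero p
      · exact Dvd.dvd.mul_left (hcon χ (Finset.ne_of_mem_erase hχ) h5) _
    have h5 : p ∣ 1 := by
      have h6 := hpN
      rw [h2] at h6
      exact (Nat.dvd_add_left h4).1 h6
    exact hp.out.one_lt.ne' (Nat.dvd_one.1 h5)
  -- uniqueness of the constituent over a character of `N`
  have huniqC : ∀ ψ : IrrCharacter G, m ψ ≠ 0 → (∀ n : N, (ψ : G → ℂ) n = (χ : G → ℂ) n) → ψ = χ := by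
    intro ψ hψm hψ
    by_contra hne'
    obtain ⟨lam, hlam⟩ := Blocks.Fong.exists_constituent (N := N) χ
    have hlam1 : (lam : N → ℂ) 1 = 1 := Characters.CCBasic.irr_apply_one_of_comm
      (fun a b => Subtype.ext (hab a a.2 b b.2)) lam.2
    choose c hc using fun ξ : IrrCharacter G =>
      classInner_isNat (isCharacter_comp N.subtype (isIrr_isCharacter ξ.2)) (isIrr_isCharacter lam.2)
    have hc' : ∀ ξ : IrrCharacter G, (c ξ : ℂ) = classInner (fun n : N => (ξ : G → ℂ) n) (lam : N → ℂ) :=
      fun ξ => (hc ξ).symm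
    have h1 : ∑ ξ : IrrCharacter G, (m ξ : ℂ) * c ξ = 1 := by
      have h2 : classInner (fun n : N => π n) (lam : N → ℂ) = ∑ ξ : IrrCharacter G, (m ξ : ℂ) * c ξ := by
        have h3 : (fun n : N => π n) = ∑ ξ : IrrCharacter G, (m ξ : ℂ) • (fun n : N => (ξ : G → ℂ) n) := by
          funext n
          rw [hexpand, Finset.sum_apply]
          exact Finset.sum_congr rfl fun ξ _ => by rw [Pi.smul_apply, smul_eq_mul]
        rw [h3, classInner_sum_left]
        exact Finset.sum_congr rfl fun ξ _ => by rw [classInner_smul_left, hc']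
      rw [← h2, classInner_def]
      have h3 : ∑ n : N, π n * conj ((lam : N → ℂ) n) = Nat.card N := by
        rw [Finset.sum_eq_single (1 : N)]
        · rw [Subgroup.coe_one, hπ1, hlam1, map_one, mul_one]
        · intro n _ hn
          rw [hπ, fpc_eq_zero N L hinf n.2 (fun h => hn (Subtype.ext h)), zero_mul]
        · exact fun h => absurd (Finset.mem_univ _) h
      rw [h3]
      have h4 : (Nat.card N : ℂ) ≠ 0 := by exact_mod_cast Nat.card_pos.ne'
      exact inv_mul_cancel₀ h4
    have h2 : ∑ ξ : IrrCharacter G, m ξ * c ξ = 1 := by exact_mod_cast h1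
    have hcχ : c χ ≠ 0 := by
      intro h
      apply hlam
      rw [← hc', h, Nat.cast_zero]
    have hcψ : c ψ ≠ 0 := by
      intro h
      apply hcχ
      have h3 : (c χ : ℂ) = c ψ := by
        rw [hc', hc']
        congr 1
        funext n
        exact (hψ n).symm
      have h4 : c χ = c ψ := by exact_mod_cast h3
      rw [h4, h]
    have h3 : m ψ * c ψ + m χ * c χ ≤ ∑ ξ : IrrCharacter G, m ξ * c ξ := by
      rw [← Finset.sum_pair hne' (f := fun ξ => m ξ * c ξ)]
      exact Finset.sum_le_sum_of_subset (Finset.subset_univ _)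
    have h4 : 0 < m ψ * c ψ := Nat.pos_of_ne_zero (mul_ne_zero hψm hcψ)
    have h5 : 0 < m χ * c χ := Nat.pos_of_ne_zero (mul_ne_zero hχm hcχ)
    omega
  refine ⟨χ, hall χ, ?_, ?_, hχd⟩
  · -- nonlinear
    intro hlin
    obtain ⟨f, hf⟩ := Characters.Linear.exists_hom_of_isIrrCharacter χ.2
      (by rw [Blocks.Basic.irr_one_eq_charDegree χ.2, hlin, Nat.cast_one])
    have hLf : L ≤ f.ker := by
      by_contra hcon
      have hne1 : (fun h : L => (χ : G → ℂ) h) ≠ fun _ => 1 := by
        intro h1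
        apply hcon
        intro x hx
        have h2 := congrFun h1 ⟨x, hx⟩
        rw [hf] at h2
        exact MonoidHom.mem_ker.2 (Units.ext h2)
      have hirr : IsIrrCharacter L (fun h : L => (χ : G → ℂ) h) := by
        rw [hf]
        exact Characters.Linear.isIrrCharacter_hom (f.comp L.subtype)
      have h1 := classInner_irr_ne (G := L) isIrr_one hirr (fun h => hne1 h.symm)
      rw [classInner_def] at h1
      apply hχm
      have h2 := hmL χ
      have h3 : ∑ h : L, conj ((χ : G → ℂ) h) = ∑ h : L, (1 : L → ℂ) h * conj ((χ : G → ℂ) h) :=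
        Finset.sum_congr rfl fun h _ => by rw [Pi.one_apply, one_mul]
      rw [h3, h1] at h2
      exact_mod_cast h2
    have hker : f.ker ≠ ⊥ := fun h => hL (le_bot_iff.1 (h ▸ hLf))
    have h1 : (⊤ : Subgroup G) ≤ f.ker := by
      rw [← hsup]
      exact sup_le (huniq _ inferInstance hker) hLf
    apply hχ1
    apply Subtype.ext
    funext g
    rw [hf]
    have h2 : f g = 1 := h1 (Subgroup.mem_top g)
    show ((f g : ℂˣ) : ℂ) = 1
    rw [h2, Units.val_one]
  · -- cyclotomic
    intro k hk hkp g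
    let ψ : IrrCharacter G := ⟨fun g => (χ : G → ℂ) (g ^ k), Characters.GaloisIrr.isIrr_pow hk.symm.symm χ.2⟩
    have hkL : (Nat.card L).Coprime k := (Nat.Coprime.coprime_dvd_right (Subgroup.card_subgroup_dvd_card L) hk).symm
    have h1 : m ψ = m χ := by
      have h2 : (m ψ : ℂ) = m χ := by
        rw [hmL, hmL]
        congr 1
        refine Fintype.sum_equiv (powCoprime hkL) _ _ fun h => ?_
        rfl
      exact_mod_cast h2
    have h2 : ψ = χ := by
      refine huniqC ψ (by rw [h1]; exact hχm) fun n => ?_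
      show (χ : G → ℂ) ((n : G) ^ k) = (χ : G → ℂ) n
      congr 1
      have h3 : orderOf (n : G) ∣ p := orderOf_dvd_of_pow_eq_one (hexp n n.2)
      have h4 : (n : G) ^ k = (n : G) ^ 1 := pow_eq_pow_iff_modEq.2 (hkp.of_dvd h3)
      rw [h4, pow_one]
    exact congrFun (congrArg Subtype.val h2) g

end abelian

section wrap

variable {p : ℕ} [hp : Fact p.Prime] {M : Ideal AlgInt}

/-- **the reduction** -/
theorem wrap (hM : IsPModular p M)
    (H : ∀ (G : Type u) [Group G] [Finite G] (N : Subgroup G), Sit p N → HasC p M G) :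
    ∀ (G : Type u) [Group G] [Finite G], ¬ HasNormalPComplement p G → HasC p M G := by
  classical
  have hMp : M.IsPrime := hM.2.1.isPrime
  suffices h : ∀ n : ℕ, ∀ (G : Type u) [Group G] [Finite G], Nat.card G = n → ¬ HasNormalPComplement p G →
      HasC p M G from fun G _ _ => h _ G rfl
  intro n
  induction n using Nat.strong_induction_on with
  | _ n ih =>
  intro G _ _ hn hG
  by_contra hcon
  have hRn : (pResidual p G).Normal := Transfer.Residual.pResidual_normal p
  -- proper quotients have normal complements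
  have hq : ∀ L : Subgroup G, ∀ [L.Normal], L ≠ ⊥ → HasNormalPComplement p (G ⧸ L) := by
    intro L _ hL
    by_contra h1
    refine hcon (HasC.of_surjective (QuotientGroup.mk' L) (QuotientGroup.mk'_surjective L)
      (ih _ ?_ (G ⧸ L) rfl h1))
    have h2 : 1 < Nat.card L := by
      by_contra h3
      exact hL (Subgroup.eq_bot_of_card_le L (not_lt.1 h3))
    have h3 := L.card_mul_index
    rw [← hn, ← h3]
    exact lt_mul_of_one_lt_left (Nat.pos_of_ne_zero Subgroup.index_ne_zero_of_finite) h2
  have hrel : ∀ L : Subgroup G, ∀ [L.Normal], L ≠ ⊥ → ¬ p ∣ L.relIndex (pResidual p G) := by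
    intro L _ hL h1
    have h2 := Transfer.NormalPComplement.hasNormalPComplement_iff_coprime.1 (hq L hL)
    rw [← Transfer.Residual.map_pResidual_of_surjective (QuotientGroup.mk' L) (QuotientGroup.mk'_surjective L),
      ← Subgroup.relIndex_ker, QuotientGroup.ker_mk'] at h2
    exact (hp.out.coprime_iff_not_dvd.1 h2.symm) h1
  -- an element of order `p` in the residual
  have hR : p ∣ Nat.card (pResidual p G) := by
    by_contra h1
    apply hG
    rw [Transfer.NormalPComplement.hasNormalPComplement_iff_coprime]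
    exact (hp.out.coprime_iff_not_dvd.2 h1).symm
  obtain ⟨⟨x₀, hx₀R⟩, hx₀⟩ := exists_prime_orderOf_dvd_card' p hR
  rw [Subgroup.orderOf_mk] at hx₀
  have hx1 : x₀ ≠ 1 := by
    intro h
    rw [h, orderOf_one] at hx₀
    exact hp.out.one_lt.ne hx₀
  have hmem : ∀ L : Subgroup G, L.Normal → L ≠ ⊥ → x₀ ∈ L := by
    intro L hLn hL
    have h1 : (QuotientGroup.mk' L) x₀ ∈ pResidual p (G ⧸ L) := by
      rw [← Transfer.Residual.map_pResidual_of_surjective (QuotientGroup.mk' L) (QuotientGroup.mk'_surjective L)]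
      exact Subgroup.mem_map_of_mem _ hx₀R
    have h2 := Transfer.NormalPComplement.hasNormalPComplement_iff_coprime.1 (hq L hL)
    have h3 : orderOf ((QuotientGroup.mk' L) x₀) ∣ Nat.card (pResidual p (G ⧸ L)) := Subgroup.orderOf_dvd_natCard _ h1
    have h4 : orderOf ((QuotientGroup.mk' L) x₀) ∣ p := hx₀ ▸ orderOf_map_dvd _ x₀
    have h5 : orderOf ((QuotientGroup.mk' L) x₀) = 1 := Nat.eq_one_of_dvd_coprimes h2 h3 h4
    rw [orderOf_eq_one_iff] at h5
    exact (QuotientGroup.eq_one_iff x₀).1 h5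
  set N : Subgroup G := Subgroup.normalClosure {x₀} with hNdef
  have hN : N.Normal := Subgroup.normalClosure_normal
  have hxN : x₀ ∈ N := Subgroup.subset_normalClosure (Set.mem_singleton x₀)
  have huniq : ∀ L : Subgroup G, L.Normal → L ≠ ⊥ → N ≤ L := fun L hL hLb =>
    Subgroup.normalClosure_le_normal (Set.singleton_subset_iff.2 (hmem L hL hLb))
  have hNne : N ≠ ⊥ := by
    intro h
    rw [h, Subgroup.mem_bot] at hxN
    exact hx1 hxN
  have hNR : N ≤ pResidual p G := Subgroup.normalClosure_le_normal (Set.singleton_subset_iff.2 hx₀R)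
  have hpN : p ∣ Nat.card N := by
    rw [← hx₀]
    exact Subgroup.orderOf_dvd_natCard N hxN
  by_cases hab : ∀ x ∈ N, ∀ y ∈ N, Commute x y
  · -- `N` is elementary abelian
    have hexp : ∀ x ∈ N, x ^ p = 1 := by
      let W : Subgroup G :=
        { carrier := {x | x ∈ N ∧ x ^ p = 1}
          one_mem' := ⟨N.one_mem, one_pow _⟩
          mul_mem' := fun {a b} ha hb => ⟨N.mul_mem ha.1 hb.1, by
            rw [(hab a ha.1 b hb.1).mul_pow, ha.2, hb.2, one_mul]⟩
          inv_mem' := fun {a} ha => ⟨N.inv_mem ha.1, by rw [inv_pow, ha.2, inv_one]⟩ }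
      have hW : W.Normal := ⟨fun x hx g => ⟨hN.conj_mem x hx.1 g, by
        rw [conj_pow, hx.2]
        group⟩⟩
      have hxW : x₀ ∈ W := ⟨hxN, by rw [← hx₀, pow_orderOf_eq_one]⟩
      have hWne : W ≠ ⊥ := by
        intro h
        rw [h, Subgroup.mem_bot] at hxW
        exact hx1 hxW
      intro x hx
      exact (huniq W hW hWne hx).2
    have hNp : IsPGroup p N := fun x => ⟨1, by rw [pow_one]; exact Subtype.ext (hexp x x.2)⟩
    obtain ⟨a, ha⟩ := IsPGroup.iff_card.1 hNp
    have hcop : (Nat.card N).Coprime (N.relIndex (pResidual p G)) := by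
      rw [ha]
      exact Nat.Coprime.pow_left a (hp.out.coprime_iff_not_dvd.2 (hrel N hNne))
    obtain ⟨H, hHR, hNH, hNH', hsup⟩ := exists_supplement N (pResidual p G) hNR hab hcop
    have hHne : H ≠ ⊥ := by
      intro h
      rw [h, sup_bot_eq] at hNH'
      apply hx1
      have h1 : pResidual p G ≤ ⊥ := by
        rw [Transfer.Residual.pResidual_def, Subgroup.closure_le]
        intro g hg
        have h2 : g ∈ N := by
          rw [hNH']
          exact Transfer.Residual.mem_pResidual_of_coprime hg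
        have h3 : orderOf g ∣ p := orderOf_dvd_of_pow_eq_one (hexp g h2)
        have h4 : orderOf g = 1 := Nat.Coprime.eq_one_of_dvd hg h3
        exact orderOf_eq_one_iff.1 h4
      exact h1 hx₀R
    set L : Subgroup G := Subgroup.normalizer (H : Set G) with hLdef
    have hLne : L ≠ ⊥ := fun h => hHne (le_bot_iff.1 (h ▸ Subgroup.le_normalizer))
    have hNL : N ⊓ L = ⊥ := by
      have hn : (N ⊓ L).Normal := by
        refine ⟨fun x hx g => ?_⟩
        have hg : g ∈ N ⊔ L := by rw [hsup]; exact Subgroup.mem_top g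
        rw [Subgroup.mem_sup_of_normal_left] at hg
        obtain ⟨n, hn, l, hl, rfl⟩ := hg
        have h1 : l * x * l⁻¹ ∈ L := L.mul_mem (L.mul_mem hl hx.2) (L.inv_mem hl)
        have h2 : l * x * l⁻¹ ∈ N := hN.conj_mem x hx.1 l
        have h3 : n * l * x * (n * l)⁻¹ = l * x * l⁻¹ := by
          have h4 : n * (l * x * l⁻¹) = (l * x * l⁻¹) * n := hab n hn _ h2
          calc n * l * x * (n * l)⁻¹ = n * (l * x * l⁻¹) * n⁻¹ := by group
            _ = l * x * l⁻¹ := by rw [h4]; group
        rw [h3]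
        exact ⟨h2, h1⟩
      by_contra h
      have h1 : N ≤ L := (huniq _ hn h).trans inf_le_right
      have h2 : L = ⊤ := by rw [← hsup]; exact (sup_eq_right.2 h1).symm
      have h3 : H.Normal := Subgroup.normalizer_eq_top_iff.1 h2
      have h4 := huniq H h3 hHne
      apply hNne
      rw [← hNH, eq_comm, inf_eq_left]
      exact h4
    exact hcon (abelian_case hM N L huniq hab hexp hNne hsup hNL hLne)
  · -- the situation
    have hcen : Subgroup.centralizer (N : Set G) = ⊥ := by
      by_contra h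
      have h1 := huniq _ (inferInstance : (Subgroup.centralizer (N : Set G)).Normal) h
      apply hab
      intro x hx y hy
      exact (Subgroup.mem_centralizer_iff.1 (h1 hy) x hx)
    exact hcon (H G N ⟨hN, huniq, hNne, hab, hpN, hNR, hrel N hNne, hcen⟩)

/-- **S4829 from the situations** -/
theorem main_iff (hM : IsPModular p M)
    (H : ∀ (G : Type u) [Group G] [Finite G] (N : Subgroup G), Sit p N → HasC p M G) (G : Type u) [Group G] [Finite G] :
    HasNormalPComplement p G ↔
      ∀ χ : IrrCharacter G, χ ∈ principalBlock M G → charDegree (χ : G → ℂ) ≠ 1 →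
        (∀ k : ℕ, Nat.Coprime k (Nat.card G) → k ≡ 1 [MOD p] → ∀ g : G, (χ : G → ℂ) (g ^ k) = (χ : G → ℂ) g) →
          p ∣ charDegree (χ : G → ℂ) := by
  constructor
  · intro h χ h1 h2 _
    exact easy hM h h1 h2
  · intro h
    by_contra hcon
    obtain ⟨χ, h1, h2, h3, h4⟩ := wrap hM H G hcon
    exact h4 (h χ h1 h2 h3)

end wrap

end Cfsg.Agent.H19.NC
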